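import Groth.Agent.S7732
import Groth.Agent.S7733
import Groth.Agent.S13295
import Groth.Agent.Lib.CyclicAlg.Tpow
import Groth.Agent.Lib.GalCd.BrC1
import Groth.Agent.Lib.GalCd.GmMax

/-!
# Fields with trivial Brauer group: cohomological dimension one
-/

set_option autoImplicit false
set_option backward.isDefEq.respectTransparency false
set_option backward.isDefEq.respectTransparency.types false
set_option linter.style.haveILetI false
set_option linter.all false

universe u

open CategoryTheory CategoryTheory.Limits CategoryTheory.Abelian AlgebraicGeometry Opposite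

noncomputable section

namespace GrothLib.CdBr2

open GrothLib.EtSite GrothLib.EtTrace21 GrothLib.GalCd

/-- All finite extensions have trivial Brauer group. -/
def BrTriv (K : Type u) [Field K] : Prop :=
  ∀ (K' : Type u) [Field K'] [Algebra K K'] [FiniteDimensional K K']
    (D : Type u) [DivisionRing D] [Algebra K' D] [Algebra.IsCentral K' D] [FiniteDimensional K' D],
    Module.finrank K' D = 1

theorem norm_surjective_of_finite {K : Type u} [Field K] (hBr : BrTriv K)
    (E : Type u) [Field E] [Algebra K E] [FiniteDimensional K E]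
    (M : Type u) [Field M] [Algebra E M] [FiniteDimensional E M] [IsGalois E M]
    (σ : M ≃ₐ[E] M) (hσ : ∀ τ : M ≃ₐ[E] M, τ ∈ Subgroup.zpowers σ) (x : E) (hx : x ≠ 0) :
    ∃ y : M, Algebra.norm E y = x := by
  obtain ⟨B, -, ι, y, hy1, hy2, -, hm, hd⟩ := Groth.Agent.S13295.result E M σ hσ (Units.mk0 x hx)
  have h : GrothLib.CyclicAlg.Rel σ (Units.mk0 x hx) ι y := ⟨hy1, hy2⟩
  haveI : Nonempty (Fin (Module.finrank E M)) := ⟨⟨0, Module.finrank_pos⟩⟩
  haveI : Nontrivial B := Module.nontrivial_of_finrank_pos (R := E) (by rw [hd]; exact pow_pos hm 2)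
  haveI : FiniteDimensional E B := FiniteDimensional.of_finrank_pos (by rw [hd]; exact pow_pos hm 2)
  have hs := h.pm_surjective_of_finrank hσ hd
  haveI := h.isSimpleRing hσ hs
  haveI := h.isCentral hσ hs
  obtain ⟨n, hn, D, _, _, _, _, ⟨e⟩⟩ := GrothLib.CSAExtra.exists_matrix_centralDivisionRing E B
  have hD := hBr E D
  have hb : Function.Bijective (algebraMap E D) := by
    refine ⟨(algebraMap E D).injective, ?_⟩
    exact ((LinearMap.injective_iff_surjective_of_finrank_eq_finrank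
      (f := Algebra.linearMap E D) (by rw [hD, Module.finrank_self])).1 (algebraMap E D).injective)
  let g : D ≃ₐ[E] E := (AlgEquiv.ofBijective (Algebra.ofId E D) hb).symm
  exact GrothLib.CyclicAlg.exists_norm_of_matrix hσ h hd hn.out (e.trans g.mapMatrix)

theorem normSurj_of_brTriv {K : Type u} [Field K] (hBr : BrTriv K) (p : ℕ) [hp : Fact p.Prime] :
    NormSurj p K := by
  intro E _ _ _ M _ _ _ _ hM x hx
  classical
  obtain ⟨σ, hσne⟩ : ∃ σ : M ≃ₐ[E] M, σ ≠ 1 := by
    by_contra h; push Not at h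
    haveI : Subsingleton (M ≃ₐ[E] M) := ⟨fun a b => (h a).trans (h b).symm⟩
    have h1 := IsGalois.card_aut_eq_finrank E M
    rw [hM, Nat.card_unique] at h1
    exact hp.out.one_lt.ne h1
  have hcard : Nat.card (M ≃ₐ[E] M) = p := (IsGalois.card_aut_eq_finrank E M).trans hM
  have hσ : ∀ τ : M ≃ₐ[E] M, τ ∈ Subgroup.zpowers σ := fun τ => mem_zpowers_of_prime_card hcard hσne
  have hord : orderOf σ = p := (GrothLib.CyclicAlg.orderOf_gen hσ).trans hM
  obtain ⟨α, hα⟩ := Field.exists_primitive_element E M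
  have hint : IsIntegral E α := Algebra.IsIntegral.isIntegral α
  have hadj : Algebra.adjoin E {α} = ⊤ := by
    rw [← IntermediateField.adjoin_simple_toSubalgebra_of_isAlgebraic hint.isAlgebraic, hα]; rfl
  obtain ⟨g, hg⟩ : ∃ g : Polynomial E, Polynomial.aeval α g = σ α := by
    have hmem : σ α ∈ Algebra.adjoin E {α} := by rw [hadj]; trivial
    rwa [Algebra.adjoin_singleton_eq_range_aeval] at hmem
  let f := minpoly E α
  let S : Set E := insert x ((g.coeffs : Set E) ∪ f.coeffs)
  have hSfin : S.Finite := (g.coeffs.finite_toSet.union f.coeffs.finite_toSet).insert x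
  haveI : Finite S := hSfin
  let E₀ : IntermediateField K E := IntermediateField.adjoin K S
  haveI : FiniteDimensional K E₀ :=
    IntermediateField.finiteDimensional_adjoin fun s _ => Algebra.IsIntegral.isIntegral s
  have hmem : ∀ s ∈ S, s ∈ E₀ := fun s hs => IntermediateField.subset_adjoin K S hs
  have hlift : ∀ q : Polynomial E, (↑q.coeffs : Set E) ⊆ S → ∃ q₀ : Polynomial E₀, q₀.map (algebraMap E₀ E) = q := by
    intro q hq
    have hc : q ∈ Polynomial.lifts (algebraMap E₀ E) := by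
      rw [Polynomial.lifts_iff_coeff_lifts]
      intro n
      by_cases h0 : q.coeff n = 0
      · exact ⟨0, by rw [h0, map_zero]⟩
      · exact ⟨⟨_, hmem _ (hq (Polynomial.coeff_mem_coeffs h0))⟩, rfl⟩
    exact hc
  obtain ⟨g₀, hg₀⟩ := hlift g (fun a ha => Or.inr (Or.inl ha))
  obtain ⟨f₀, hf₀⟩ := hlift f (fun a ha => Or.inr (Or.inr ha))
  have hf₀m : f₀.Monic := Polynomial.monic_of_injective (algebraMap E₀ E).injective
    (hf₀.symm ▸ minpoly.monic hint)
  have hα0 : Polynomial.aeval α f₀ = 0 := by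
    rw [← Polynomial.aeval_map_algebraMap E, hf₀]; exact minpoly.aeval E α
  have hint0 : IsIntegral E₀ α := ⟨f₀, hf₀m, hα0⟩
  let M₀ : IntermediateField E₀ M := IntermediateField.adjoin E₀ {α}
  haveI : FiniteDimensional E₀ M₀ := IntermediateField.adjoin.finiteDimensional hint0
  have hdeg : Module.finrank E₀ M₀ ≤ p := by
    rw [IntermediateField.adjoin.finrank hint0]
    refine (Polynomial.natDegree_le_of_dvd (minpoly.dvd E₀ α hα0) hf₀m.ne_zero).trans ?_
    rw [← Polynomial.natDegree_map_eq_of_injective (algebraMap E₀ E).injective, hf₀, ← hM,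
      ← IntermediateField.finrank_top' (F := E) (E := M), ← hα, IntermediateField.adjoin.finrank hint]
  have hαmem : α ∈ M₀ := IntermediateField.mem_adjoin_simple_self E₀ α
  have hσα : σ α ∈ M₀ := by
    rw [← hg, ← hg₀, Polynomial.aeval_map_algebraMap]
    exact (IntermediateField.algebra_adjoin_le_adjoin E₀ {α})
      (Polynomial.aeval_mem_adjoin_singleton E₀ α)
  let τ : M →ₐ[E₀] M := (σ : M →ₐ[E] M).restrictScalars E₀
  have hstab : M₀.map τ ≤ M₀ := by
    rw [IntermediateField.adjoin_map, Set.image_singleton]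
    exact IntermediateField.adjoin_le_iff.2 (Set.singleton_subset_iff.2 hσα)
  let σ₀' : M₀ →ₐ[E₀] M₀ := (τ.comp M₀.val).codRestrict M₀.toSubalgebra fun z => hstab ⟨z.1, z.2, rfl⟩
  let σ₀ : M₀ ≃ₐ[E₀] M₀ := AlgEquiv.ofBijective σ₀' ⟨σ₀'.toRingHom.injective,
    (LinearMap.injective_iff_surjective (f := σ₀'.toLinearMap)).1 σ₀'.toRingHom.injective⟩
  have hpow : ∀ (i : ℕ) (z : M₀), ((σ₀ ^ i) z : M) = (σ ^ i) (z : M) := by
    intro i
    induction i with
    | zero => intro z; rfl
    | succ i ih => intro z; rw [pow_succ, pow_succ, AlgEquiv.mul_apply, AlgEquiv.mul_apply, ih]; rfl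
  have hord₀ : orderOf σ₀ = p := by
    refine orderOf_eq_prime ?_ ?_
    · refine AlgEquiv.ext fun z => Subtype.ext ?_
      rw [hpow, ← hord, pow_orderOf_eq_one]; rfl
    · intro h1
      refine hσne (AlgEquiv.coe_toAlgHom_injective ?_)
      refine AlgHom.ext_of_adjoin_eq_top hadj fun z hz => ?_
      rw [Set.mem_singleton_iff] at hz
      subst hz
      have := hpow 1 ⟨z, hαmem⟩
      rw [pow_one, pow_one, h1] at this
      exact this.symm
  have hc : Nat.card (M₀ ≃ₐ[E₀] M₀) = p ∧ Module.finrank E₀ M₀ = p := by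
    have h1 : p ≤ Nat.card (M₀ ≃ₐ[E₀] M₀) := hord₀ ▸ orderOf_le_card
    have h2 : Nat.card (M₀ ≃ₐ[E₀] M₀) ≤ Module.finrank E₀ M₀ := by
      rw [Nat.card_eq_fintype_card]; exact AlgEquiv.card_le
    omega
  haveI : IsGalois E₀ M₀ := IsGalois.of_card_aut_eq_finrank _ _ (hc.1.trans hc.2.symm)
  have hσ₀ : ∀ r : M₀ ≃ₐ[E₀] M₀, r ∈ Subgroup.zpowers σ₀ := fun r =>
    mem_zpowers_of_prime_card hc.1 fun h1 => hp.out.ne_one (by rw [← hord₀, h1, orderOf_one])
  obtain ⟨y, hy⟩ := norm_surjective_of_finite hBr E₀ M₀ σ₀ hσ₀ ⟨x, hmem x (Set.mem_insert _ _)⟩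
    (fun h0 => hx (congrArg Subtype.val h0))
  refine ⟨(y : M), (algebraMap E M).injective ?_⟩
  rw [GrothLib.CyclicAlg.norm_eq_prod_range hσ, hM]
  have h := GrothLib.CyclicAlg.norm_eq_prod_range hσ₀ y
  rw [hy, hc.2] at h
  refine Eq.trans ?_ (congrArg M₀.val h).symm
  rw [map_prod]
  exact Finset.prod_congr rfl fun i _ => (hpow i y).symm

/-- Torsion sheaves have no cohomology in degrees `≥ 2`. -/
theorem H_torsion_eq_zero {K : Type u} [Field K] (hN : ∀ p : ℕ, p.Prime → NormSurj p K)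
    (F : EtCoh.Ab (Spec (CommRingCat.of K))) (hF : EtCoh.IsTorsion F) (q : ℕ) (hq : 2 ≤ q)
    (x : EtCoh.H (Spec (CommRingCat.of K)) F q) : x = 0 := by
  obtain ⟨r, rfl⟩ : ∃ r, q = r + 1 := ⟨q - 1, by omega⟩
  refine eq_zero_of_isOfFinAddOrder (fun p hp y hy => ?_) x
    (GrothLib.EtTrace21.isOfFinAddOrder_H K F r x)
  haveI : Fact p.Prime := ⟨hp⟩
  by_cases hpK : (p : K) = 0
  · haveI : CharP K p := (CharP.charP_iff_prime_eq_zero hp).2 hpK
    exact Groth.Agent.S7733.result K p F hF (r + 1) hq y ⟨1, by rwa [pow_one]⟩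
  · have h31 := (Groth.Agent.S7732.result K p hpK).out 2 0
    exact h31.1 (fun E _ _ _ M _ _ _ _ hM => hN p hp E M hM) F hF (r + 1) (by omega) y
      ⟨1, by rwa [pow_one]⟩

theorem eq_one_of_pow_char {A : Type u} [CommRing A] [IsReduced A] (p : ℕ) [Fact p.Prime]
    (h : (p : A) = 0) {u : A} (hu : u ^ p = 1) : u = 1 := by
  rcases subsingleton_or_nontrivial A with hA | hA
  · exact Subsingleton.elim _ _
  haveI : CharP A p := (CharP.charP_iff_prime_eq_zero Fact.out).2 h
  haveI : ExpChar A p := ExpChar.prime Fact.out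
  exact frobenius_inj A p (by rw [frobenius_def, frobenius_def, one_pow, hu])

theorem mono_powMap (K : Type u) [Field K] (p : ℕ) [Fact p.Prime] (hpK : (p : K) = 0) :
    Mono (p • 𝟙 (EtCoh.Gm (Spec (CommRingCat.of K)))) := by
  refine ⟨fun {T} g h e => ObjectProperty.hom_ext _ (NatTrans.ext (funext fun V =>
    AddCommGrpCat.hom_ext (AddMonoidHom.ext fun z => ?_)))⟩
  haveI : Etale V.unop.hom := V.unop.prop
  haveI : IsReduced (Spec (CommRingCat.of K)) := inferInstance
  haveI : IsReduced V.unop.left := GrothLib.GalCd.isReduced_of_etale (Y := Spec (CommRingCat.of K)) V.unop.hom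
  rw [Preadditive.comp_nsmul, Category.comp_id, Preadditive.comp_nsmul, Category.comp_id] at e
  have e2 : p • g.hom.app V z = p • h.hom.app V z := congr($(congrArg (fun r : T ⟶ _ => r.hom.app V) e) z)
  rw [← sub_eq_zero, ← smul_sub] at e2
  refine sub_eq_zero.1 (ULift.ext _ _ (Additive.toMul.injective (Units.ext ?_)))
  refine eq_one_of_pow_char (A := Γ(V.unop.left, ⊤)) p ?_ ?_
  · have h0 := congrArg (fun r => (V.unop.hom.appTop.hom) ((Scheme.ΓSpecIso (CommRingCat.of K)).inv.hom r)) hpK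
    exact ((map_natCast _ p).symm.trans ((congrArg (V.unop.hom.appTop.hom) (map_natCast (Scheme.ΓSpecIso (CommRingCat.of K)).inv.hom p).symm).trans h0)).trans ((congrArg (V.unop.hom.appTop.hom) (map_zero _)).trans (map_zero _))
  · exact congrArg (fun r : ULift.{u + 1} (Additive (Γ(V.unop.left, ⊤) : Type u)ˣ) =>
      ((Additive.toMul r.down : _ˣ) : Γ(V.unop.left, ⊤))) e2

/-- `𝔾ₘ` has no cohomology in positive degree. -/
theorem H_Gm_eq_zero {K : Type u} [Field K] (hN : ∀ p : ℕ, p.Prime → NormSurj p K)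
    (q : ℕ) (hq : 1 ≤ q) (x : EtCoh.H (Spec (CommRingCat.of K)) (EtCoh.Gm _) q) : x = 0 := by
  obtain ⟨r, rfl⟩ : ∃ r, q = r + 1 := ⟨q - 1, by omega⟩
  rcases Nat.lt_or_ge r 1 with h | hr1
  · obtain rfl : r = 0 := by omega
    exact (GrothLib.EtTrace21.subsingleton_H_one_Gm K).elim _ _
  refine eq_zero_of_isOfFinAddOrder (fun p hp y hy => ?_) x
    (GrothLib.EtTrace21.isOfFinAddOrder_H K _ r x)
  haveI : Fact p.Prime := ⟨hp⟩
  let S := Spec (CommRingCat.of K)
  rcases Nat.lt_or_ge r 2 with h | hr2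
  · obtain rfl : r = 1 := by omega
    exact primary_Br_eq_zero p K (hN p hp) y 1 (by rwa [pow_one])
  by_cases hpK : (p : K) = 0
  · haveI := mono_powMap K p hpK
    let φ : EtCoh.Gm S ⟶ EtCoh.Gm S := p • 𝟙 (EtCoh.Gm S)
    let T := ShortComplex.mk φ (cokernel.π φ) (cokernel.condition φ)
    have hT : T.ShortExact := { exact := T.exact_of_g_is_cokernel (cokernelIsCokernel φ) }
    obtain ⟨w, hw⟩ := Ext.covariant_sequence_exact₁ _ hT y (by
      change Ext.comp y (Ext.mk₀ (p • 𝟙 (EtCoh.Gm S))) _ = 0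
      rw [comp_nsmul_id, hy]) (rfl : r + 1 = r + 1)
    have hk : p • 𝟙 (cokernel φ) = 0 := by
      rw [← cancel_epi (cokernel.π φ), Preadditive.comp_nsmul, Category.comp_id, comp_zero]
      have h1 : φ ≫ cokernel.π φ = 0 := cokernel.condition φ
      rwa [show φ ≫ cokernel.π φ = p • cokernel.π φ by
        change (p • 𝟙 (EtCoh.Gm S)) ≫ cokernel.π φ = _
        rw [Preadditive.nsmul_comp, Category.id_comp]] at h1
    have hw0 : w = 0 := H_torsion_eq_zero hN _ (isTorsion_of_killed hp.ne_zero hk) r hr2 w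
    rw [← hw, hw0, Ext.zero_comp]
  · haveI hepi : Epi (EtCoh.powMap S p) := GrothLib.EtBasicB.powMap_epi S p (by
      have := (Ne.isUnit hpK).map (Scheme.ΓSpecIso (CommRingCat.of K)).inv.hom
      rwa [map_natCast] at this)
    obtain ⟨z, rfl⟩ := Ext.covariant_sequence_exact₂ _ (EtSix.kummerShortExact hepi) y (by
      change Ext.comp y (Ext.mk₀ (p • 𝟙 (EtCoh.Gm S))) _ = 0
      rw [comp_nsmul_id, hy])
    have hk : p • 𝟙 (EtCoh.mu S p) = 0 := Groth.Agent.S7732.nsmul_id_mu S p
    have hz : z = 0 := H_torsion_eq_zero hN _ (isTorsion_of_killed hp.ne_zero hk) (r + 1) (by omega) z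
    rw [hz, Ext.zero_comp]

theorem normSurj_of_trdeg_le_one (k K : Type u) [Field k] [IsAlgClosed k] [Field K] [Algebra k K]
    (h : Algebra.trdeg k K ≤ 1) (p : ℕ) : NormSurj p K := by
  obtain ⟨j, hj⟩ := Cardinal.lt_aleph0.1 (h.trans_lt Cardinal.one_lt_aleph0)
  refine normSurj_of_isCi_one ?_ p
  have hj1 : j ≤ 1 := by rw [hj] at h; exact_mod_cast h
  have hK := Groth.Agent.S0212.result k K j hj
  intro r n f d hfd hd hlt
  refine hK r n f d hfd hd (lt_of_le_of_lt (Finset.sum_le_sum fun ρ _ => ?_) hlt)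
  exact Nat.pow_le_pow_right (hd ρ) hj1

end GrothLib.CdBr2
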