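import Groth.Agent.Lib.CdBr2.Basic
import Groth.Agent.Lib.GalCd.BrCurve
import Groth.Agent.Lib.EtTrace21.H90Push
import Groth.Agent.S14451

/-!
# Direct images of `𝔾ₘ` from fields with trivial Brauer groups, and curves
-/

set_option autoImplicit false
set_option backward.isDefEq.respectTransparency false
set_option backward.isDefEq.respectTransparency.types false
set_option linter.style.haveILetI false
set_option linter.all false

universe u

open CategoryTheory CategoryTheory.Limits CategoryTheory.Abelian AlgebraicGeometry Opposite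
open GrothLib.EtSite GrothLib.EtTrace21 GrothLib.GalCd

noncomputable section

namespace GrothLib.CdBr2

variable {k : Type u} [Field k]

/-- Higher direct images from a field vanish when cohomology of all finite separable extensions does. -/
theorem isZero_Rpush_of_fields {X : Scheme.{u}} (f : Spec (CommRingCat.of k) ⟶ X) :
    ∀ (q : ℕ) (F : EtCoh.Ab (Spec (CommRingCat.of k))),
      (∀ (K : Type u) [Field K] [Algebra k K] [FiniteDimensional k K] [Algebra.IsSeparable k K]
        [Etale (specMap k K)] [EtShriek.JCont (specMap k K)] (i : ℕ), 1 ≤ i →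
          Subsingleton (EtCoh.H (Spec (CommRingCat.of K)) ((EtShriek.restrAlong (specMap k K)).obj F) i)) →
      IsZero ((EtCoh.Rpush f (q + 1)).obj F) := by
  haveI : PreservesFiniteLimits (EtCoh.push f) :=
    ((EtCoh.pullPushAdj f).rightAdjoint_preservesLimits : PreservesLimitsOfSize.{0, 0} _).preservesFiniteLimits
  intro q
  induction q with
  | zero =>
    intro F h
    let S := injS F
    have hS := injS_shortExact F
    haveI : Injective S.X₂ := inferInstanceAs (Injective (Injective.under _))
    haveI : Sheaf.IsLocallySurjective ((EtCoh.push f).map S.g) := by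
      constructor
      intro U s
      obtain ⟨z, hz⟩ := exists_lift_of_fields S.g (fun K _ _ _ _ t => by
        haveI := etale_specMap k K
        haveI := GrothLib.Constructible.jcont (specMap k K)
        exact exists_lift_VL S hS K (h K 1 le_rfl) t) ((EtCoh.bc f).obj U) s
      refine GrothendieckTopology.superset_covering _ ?_ (GrothendieckTopology.top_mem _ _)
      intro V g _
      exact ⟨((EtCoh.push f).obj S.X₂).obj.map g.op z,
        (NatTrans.naturality_apply ((EtCoh.push f).map S.g).hom g.op z).trans (congrArg _ hz)⟩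
    haveI : Epi ((EtCoh.push f).map S.g) := (Sheaf.isLocallySurjective_iff_epi' _ _).1 inferInstance
    exact IsZero.of_iso (isZero_cokernel_of_epi _) (GrothLib.HomGamma.shiftIsoOne hS (EtCoh.push f))
  | succ q ih =>
    intro F h
    let S := injS F
    have hS := injS_shortExact F
    haveI : Injective S.X₂ := inferInstanceAs (Injective (Injective.under _))
    refine IsZero.of_iso (ih S.X₃ fun K _ _ _ _ _ _ i hi => ⟨fun a b => ?_⟩)
      (GrothLib.HomGamma.shiftIso hS (EtCoh.push f) q)
    let j := specMap k K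
    haveI := GrothLib.EtDer.pullFL j
    haveI : PreservesFiniteLimits (EtShriek.restrAlong j) :=
      preservesFiniteLimits_of_natIso (GrothLib.ExtZero.restrIsoPull j).symm
    haveI : PreservesFiniteColimits (EtShriek.restrAlong j) :=
      preservesFiniteColimits_of_natIso (GrothLib.ExtZero.restrIsoPull j).symm
    haveI : (EtShriek.restrAlong j).Additive := Functor.additive_of_preserves_binary_products _
    have hT : (S.map (EtShriek.restrAlong j)).ShortExact := hS.map_of_exact _
    haveI := GrothLib.ExtZero.preservesFiniteLimits_extZero j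
    haveI : (EtShriek.extZero j).PreservesMonomorphisms := preservesMonomorphisms_of_preservesLimitsOfShape _
    haveI : Injective (S.map (EtShriek.restrAlong j)).X₂ := Injective.injective_of_adjoint (EtShriek.extZeroAdj j) S.X₂
    suffices hz : ∀ c : EtCoh.H _ ((EtShriek.restrAlong j).obj S.X₃) i, c = 0 from (hz a).trans (hz b).symm
    intro c
    obtain ⟨r, rfl⟩ : ∃ r, i = r + 1 := ⟨i - 1, by omega⟩
    obtain ⟨y, hy⟩ := Ext.covariant_sequence_exact₃ _ hT c rfl
      ((h K (r + 1 + 1) (by omega)).elim _ _)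
    rw [← hy, Ext.eq_zero_of_injective y, Ext.zero_comp]

/-- Higher direct images of `𝔾ₘ` from a field with surjective norms vanish. -/
theorem isZero_Rpush_Gm {X : Scheme.{u}} (f : Spec (CommRingCat.of k) ⟶ X)
    (hN : ∀ p : ℕ, p.Prime → NormSurj p k) (q : ℕ) (hq : 0 < q) :
    IsZero ((EtCoh.Rpush f q).obj (EtCoh.Gm (Spec (CommRingCat.of k)))) := by
  obtain ⟨r, rfl⟩ : ∃ r, q = r + 1 := ⟨q - 1, by omega⟩
  refine isZero_Rpush_of_fields f r _ fun K _ _ _ _ _ _ i hi => ⟨fun a b => ?_⟩
  obtain ⟨e⟩ := restrAlong_Gm (specMap k K)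
  apply ((EtCoh.HF _ i).mapIso e).addCommGroupIsoToAddEquiv.injective
  exact (H_Gm_eq_zero (fun p hp => normSurj_trans (hN p hp)) i hi _).trans
    (H_Gm_eq_zero (fun p hp => normSurj_trans (hN p hp)) i hi _).symm

variable {X : Scheme.{u}} [AlgebraicGeometry.IsNoetherian X] [IsReduced X]

/-- `H²` of the multiplicative group of a reduced noetherian curve, with separably closed residue fields at closed
points, injects into the groups at the maximal points. -/
theorem HGm_eq_zero_of_max (hdim : topologicalKrullDim X ≤ 1)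
    (hsep : ∀ x : X, IsClosed ({x} : Set X) → IsSepClosed (X.residueField x))
    (hN : ∀ x : MaxPts X, ∀ p : ℕ, p.Prime → NormSurj p (X.residueField x.1))
    (q : ℕ) (hq : 2 ≤ q) (a : EtCoh.H X (EtCoh.Gm X) q) : a = 0 := by
  classical
  haveI : Fintype (MaxPts X) := Fintype.ofFinite _
  let G : MaxPts X → EtCoh.Ab X := fun x =>
    (EtCoh.push (X.fromSpecResidueField x.1)).obj (EtCoh.Gm (Spec (X.residueField x.1)))
  let φ : EtCoh.Gm X ⟶ ⨁ G := biproduct.lift fun x => EtLim.GmPush (X.fromSpecResidueField x.1)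
  haveI : Mono φ := by
    refine ⟨fun {T} g h e => ObjectProperty.hom_ext _ (NatTrans.ext (funext fun V =>
      AddCommGrpCat.hom_ext (AddMonoidHom.ext fun z => ?_)))⟩
    let u₁ := g.hom.app V z
    let u₂ := h.hom.app V z
    refine sub_eq_zero.1 (ULift.ext _ _ (Additive.toMul.injective (Units.ext ?_)))
    refine eq_one_of_forall_max V.unop _ fun x hx => ?_
    have e2 : (EtLim.GmPush (X.fromSpecResidueField x)).hom.app V (u₁ - u₂) = 0 := by
      rw [map_sub, sub_eq_zero]
      have := congrArg (fun r => r ≫ biproduct.π G ⟨x, hx⟩) e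
      simp only [φ, Category.assoc, biproduct.lift_π] at this
      exact congr($(congrArg (fun r : T ⟶ G ⟨x, hx⟩ => r.hom.app V) this) z)
    exact congrArg (fun r : ULift.{u + 1} (Additive
      (Γ(((EtCoh.bc (X.fromSpecResidueField x)).obj V.unop).left, ⊤) : Type u)ˣ) =>
        ((Additive.toMul r.down : _ˣ) : Γ(((EtCoh.bc (X.fromSpecResidueField x)).obj V.unop).left, ⊤))) e2
  have htot : ∑ j, biproduct.π G j ≫ biproduct.ι G j = 𝟙 (⨁ G) := IsBilimit.total (biproduct.isBilimit G)
  let T := ShortComplex.mk φ (cokernel.π φ) (cokernel.condition φ)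
  have hT : T.ShortExact := { exact := T.exact_of_g_is_cokernel (cokernelIsCokernel φ) }
  have hQ : ∀ (Ω : Type u) [Field Ω] [IsSepClosed Ω] (ξ : Spec (CommRingCat.of Ω) ⟶ X),
      ¬ IsClosed ({ξ.base (default : Spec (CommRingCat.of Ω))} : Set X) → IsZero ((EtCoh.stalk ξ).obj T.X₃) := by
    intro Ω _ _ ξ hnc
    let x₀ := ξ.base (default : Spec (CommRingCat.of Ω))
    let i₀ : MaxPts X := ⟨x₀, fun y hy => maximal_of_not_isClosed hdim x₀ hnc y hy⟩
    have hzero : ∀ i : MaxPts X, i ≠ i₀ → IsZero ((EtCoh.stalk ξ).obj (G i)) := fun i hi =>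
      isZero_stalk_push_of_not_specializes i.1 ξ (fun hs => hi (Subtype.ext (i₀.2 _ hs))) _
    have hid : ∀ y : (EtCoh.stalk ξ).obj (⨁ G),
        y = (EtCoh.stalk ξ).map (biproduct.ι G i₀) ((EtCoh.stalk ξ).map (biproduct.π G i₀) y) := by
      intro y
      have e : (EtCoh.stalk ξ).map (𝟙 (⨁ G)) = (EtCoh.stalk ξ).map (biproduct.π G i₀ ≫ biproduct.ι G i₀) := by
        rw [← htot, Functor.map_sum, Finset.sum_eq_single i₀]
        · intro i _ hi
          rw [Functor.map_comp, (hzero i hi).eq_of_tgt ((EtCoh.stalk ξ).map (biproduct.π G i)) 0, zero_comp]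
        · exact fun h => absurd (Finset.mem_univ _) h
      rw [CategoryTheory.Functor.map_id, Functor.map_comp] at e
      exact congr($e y)
    haveI : Epi ((EtCoh.stalk ξ).map φ) := by
      refine (AddCommGrpCat.epi_iff_surjective _).2 fun y => ?_
      obtain ⟨c, hc⟩ := surjective_stalk_GmPush x₀ i₀.2 ξ rfl ((EtCoh.stalk ξ).map (biproduct.π G i₀) y)
      refine ⟨c, ?_⟩
      rw [hid ((EtCoh.stalk ξ).map φ c), hid y]
      congr 1
      rw [← hc, ← ConcreteCategory.comp_apply, ← Functor.map_comp, biproduct.lift_π]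
    refine IsZero.of_epi_eq_zero ((EtCoh.stalk ξ).map T.g) ?_
    rw [← cancel_epi ((EtCoh.stalk ξ).map φ), ← Functor.map_comp, T.zero, Functor.map_zero, comp_zero]
  haveI : ∀ x : MaxPts X, PreservesFiniteLimits (EtCoh.pull (X.fromSpecResidueField x.1)) :=
    fun x => GrothLib.EtDer.pullFL _
  have hcomp : ∀ i, Ext.comp a (Ext.mk₀ (φ ≫ biproduct.π G i)) (add_zero q) = 0 := fun i =>
    (Groth.Agent.S14451.result (X.fromSpecResidueField i.1) _
      (fun r hr => isZero_Rpush_Gm (X.fromSpecResidueField i.1) (hN i) r hr) q).1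
      ((H_Gm_eq_zero (hN i) q (by omega) _).trans (H_Gm_eq_zero (hN i) q (by omega) _).symm)
  have h0 : Ext.comp a (Ext.mk₀ φ) (add_zero q) = 0 := by
    have e : φ = ∑ i, (φ ≫ biproduct.π G i) ≫ biproduct.ι G i := by
      simp only [Category.assoc, ← Preadditive.comp_sum]
      rw [htot, Category.comp_id]
    rw [e, Ext.mk₀_sum, Ext.comp_sum]
    refine Finset.sum_eq_zero fun i _ => ?_
    rw [← Ext.mk₀_comp_mk₀, ← Ext.comp_assoc_of_third_deg_zero, hcomp, Ext.zero_comp]
  obtain ⟨r, rfl⟩ : ∃ r, q = r + 1 := ⟨q - 1, by omega⟩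
  obtain ⟨w, rfl⟩ := Ext.covariant_sequence_exact₁ _ hT a h0 rfl
  rw [H_eq_zero_of_supp_closedPts hsep _ hQ r (by omega) w, Ext.zero_comp]

omit [AlgebraicGeometry.IsNoetherian X] [IsReduced X] in
/-- The function field of an integral curve over an algebraically closed field has surjective norms. -/
theorem normSurj_functionField {k₀ : Type u} [Field k₀] [IsAlgClosed k₀] {Y : Scheme.{u}} [IsIntegral Y]
    [AlgebraicGeometry.IsNoetherian Y] (f : Y ⟶ Spec (CommRingCat.of k₀)) [LocallyOfFiniteType f]
    (hdim : topologicalKrullDim Y ≤ 1) (p : ℕ) : NormSurj p Y.functionField := by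
  let η := genericPoint Y
  letI : Algebra k₀ (Y.residueField η) := (Spec.preimage (Y.fromSpecResidueField η ≫ f)).hom.toAlgebra
  let r : Y.functionField →+* Y.residueField η := (Y.residue η).hom
  let e : Y.functionField ≃+* Y.residueField η := RingEquiv.ofBijective r ⟨r.injective, Y.residue_surjective η⟩
  letI : Algebra k₀ Y.functionField := (e.symm.toRingHom.comp (algebraMap k₀ (Y.residueField η))).toAlgebra
  let e' : Y.functionField ≃ₐ[k₀] Y.residueField η := AlgEquiv.ofRingEquiv (f := e) fun c => e.apply_symm_apply _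
  refine normSurj_of_trdeg_le_one k₀ Y.functionField ?_ p
  rw [e'.trdeg_eq]
  exact trdeg_residueField_le f hdim η

end GrothLib.CdBr2
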