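import Groth.Agent.Lib.GalCd.GmMax
import Groth.Agent.Lib.GalCd.PtSupp
import Groth.Agent.Lib.EtSite.PushUI
import Groth.Agent.Lib.EtTrace21.H90Push
import Groth.Agent.Lib.GalCd.SylowRed
import Mathlib.RingTheory.Etale.StandardEtale

/-!
# Direct image from a maximal point of a noetherian scheme: the counit is an isomorphism
-/

set_option autoImplicit false
set_option backward.isDefEq.respectTransparency false
set_option backward.isDefEq.respectTransparency.types false
set_option linter.style.haveILetI false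
set_option linter.all false

universe u

open CategoryTheory CategoryTheory.Limits AlgebraicGeometry Opposite Polynomial TensorProduct
open GrothLib.EtSite GrothLib.EtTrace21 GrothLib.GalCd

noncomputable section

namespace GrothLib.CdBr2

/-- Finite separable extensions of a fraction field have primitive elements whose minimal polynomial lifts. -/
theorem exists_primitive_lift {R κ : Type u} [CommRing R] [Field κ] [Algebra R κ]
    (hfr : ∀ z : κ, ∃ a s : R, algebraMap R κ s ≠ 0 ∧ z * algebraMap R κ s = algebraMap R κ a)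
    (E : Type u) [Field E] [Algebra κ E] [FiniteDimensional κ E] [Algebra.IsSeparable κ E] :
    ∃ (pb : PowerBasis κ E) (F : R[X]), F.Monic ∧ F.map (algebraMap R κ) = minpoly κ pb.gen := by
  classical
  obtain ⟨α, hα⟩ := Field.exists_primitive_element κ E
  let f := minpoly κ α
  have hint : IsIntegral κ α := Algebra.IsIntegral.isIntegral α
  let n := f.natDegree
  choose a s hs he using fun i : ℕ => hfr (f.coeff i)
  let d : R := ∏ i ∈ Finset.range n, s i
  have hd : algebraMap R κ d ≠ 0 := by
    rw [map_prod]; exact Finset.prod_ne_zero_iff.2 fun i _ => hs i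
  let c : κ := algebraMap R κ d
  let β : E := algebraMap κ E c * α
  have hβE : IntermediateField.adjoin κ {β} = ⊤ := by
    refine eq_top_iff.2 (hα ▸ IntermediateField.adjoin_le_iff.2 (Set.singleton_subset_iff.2 ?_))
    have : α = algebraMap κ E c⁻¹ * β := by
      rw [← mul_assoc, ← map_mul, inv_mul_cancel₀ hd, map_one, one_mul]
    rw [this]
    exact mul_mem (IntermediateField.algebraMap_mem _ _) (IntermediateField.mem_adjoin_simple_self κ β)
  have hintβ : IsIntegral κ β := Algebra.IsIntegral.isIntegral β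
  let pb : PowerBasis κ E := (IntermediateField.adjoin.powerBasis hintβ).map
    ((IntermediateField.equivOfEq hβE).trans IntermediateField.topEquiv)
  have hgen : pb.gen = β := rfl
  have hdeg : (minpoly κ β).natDegree = n := by
    rw [← IntermediateField.adjoin.finrank hintβ, hβE, ← hα, IntermediateField.adjoin.finrank hint]
  have hp : minpoly κ β = f.scaleRoots c := by
    refine (eq_of_monic_of_dvd_of_natDegree_le (minpoly.monic hintβ) ?_ ?_ ?_).symm
    · exact (monic_scaleRoots_iff c).2 (minpoly.monic hint)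
    · exact minpoly.dvd κ β (scaleRoots_aeval_eq_zero (minpoly.aeval κ α))
    · rw [natDegree_scaleRoots, hdeg]
  have hl : f.scaleRoots c ∈ Polynomial.lifts (algebraMap R κ) := by
    rw [lifts_iff_coeff_lifts]
    intro i
    rw [coeff_scaleRoots]
    rcases Nat.lt_or_ge i n with hi | hi
    · have hexp : n - i = (n - i - 1) + 1 := by omega
      change f.coeff i * c ^ (n - i) ∈ _
      rw [hexp, pow_succ', ← mul_assoc]
      refine ⟨a i * (∏ j ∈ (Finset.range n).erase i, s j) * d ^ (n - i - 1), ?_⟩
      rw [map_mul, map_mul, map_pow, ← he i, mul_assoc (f.coeff i), ← map_mul,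
        Finset.mul_prod_erase _ _ (Finset.mem_range.2 hi)]
    · rcases Nat.lt_or_ge n i with hi' | hi'
      · exact ⟨0, by rw [map_zero, coeff_eq_zero_of_natDegree_lt hi', zero_mul]⟩
      · obtain rfl : i = n := le_antisymm hi' hi
        exact ⟨1, by rw [map_one, show f.natDegree - n = 0 from Nat.sub_self n, pow_zero, mul_one,
          show f.coeff n = 1 from (minpoly.monic hint).coeff_natDegree]⟩
  obtain ⟨F, hF, -, hFm⟩ := lifts_and_natDegree_eq_and_monic hl ((monic_scaleRoots_iff c).2 (minpoly.monic hint))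
  exact ⟨pb, F, hFm, by rw [hF, hgen, hp]⟩

/-- Finite separable extensions of a fraction field come from étale algebras. -/
theorem exists_etale_algebra {R κ : Type u} [CommRing R] [Field κ] [Algebra R κ]
    (hfr : ∀ z : κ, ∃ a s : R, algebraMap R κ s ≠ 0 ∧ z * algebraMap R κ s = algebraMap R κ a)
    (E : Type u) [Field E] [Algebra κ E] [FiniteDimensional κ E] [Algebra.IsSeparable κ E] :
    ∃ (A : Type u) (_ : CommRing A) (_ : Algebra R A) (_ : Algebra.Etale R A),
      Nonempty (κ ⊗[R] A ≃ₐ[κ] E) := by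
  obtain ⟨pb, F, hF, hFE⟩ := exists_primitive_lift hfr E
  letI : Algebra R E := ((algebraMap κ E).comp (algebraMap R κ)).toAlgebra
  haveI : IsScalarTower R κ E := IsScalarTower.of_algebraMap_eq fun _ => rfl
  let Q : StandardEtalePair R := ⟨F, hF, derivative F, 1, 0, 1, by simp⟩
  have h0 : aeval pb.gen Q.f = 0 := by
    change aeval pb.gen F = 0
    rw [← aeval_map_algebraMap κ, hFE]; exact minpoly.aeval κ pb.gen
  have h1 : IsUnit (aeval pb.gen Q.g) := by
    refine isUnit_iff_ne_zero.2 ?_
    change aeval pb.gen (derivative F) ≠ 0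
    rw [← aeval_map_algebraMap κ, ← derivative_map, hFE]
    exact (Algebra.IsSeparable.isSeparable κ pb.gen).aeval_derivative_ne_zero (minpoly.aeval κ pb.gen)
  let φ : κ ⊗[R] Q.Ring →ₐ[κ] E :=
    Algebra.TensorProduct.lift (Algebra.ofId κ E) (Q.lift pb.gen ⟨h0, h1⟩) fun _ _ => Commute.all _ _
  let y : κ ⊗[R] Q.Ring := 1 ⊗ₜ Q.X
  have hy : aeval y (minpoly κ pb.gen) = 0 := by
    rw [← hFE, aeval_map_algebraMap]
    have := (StandardEtalePair.hasMap_X (P := Q)).1
    change aeval (Algebra.TensorProduct.includeRight Q.X : κ ⊗[R] Q.Ring) F = 0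
    rw [aeval_algHom_apply, this, map_zero]
  let ψ : E →ₐ[κ] κ ⊗[R] Q.Ring := pb.lift y hy
  haveI : Algebra.Etale R Q.Ring := inferInstance
  refine ⟨Q.Ring, inferInstance, inferInstance, inferInstance, ⟨AlgEquiv.ofAlgHom φ ψ (pb.algHom_ext ?_) ?_⟩⟩
  · simp only [AlgHom.comp_apply, ψ, PowerBasis.lift_gen, AlgHom.id_apply, φ, y,
      Algebra.TensorProduct.lift_tmul, map_one, one_mul]
    exact Q.lift_X _ _
  · refine Algebra.TensorProduct.ext (Algebra.ext_id _ _ _) (Q.hom_ext ?_)
    change ψ (φ y) = y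
    have : φ y = pb.gen := by
      simp only [φ, y, Algebra.TensorProduct.lift_tmul, map_one, one_mul]
      exact Q.lift_X _ _
    rw [this]
    exact pb.lift_gen y hy

variable {X : Scheme.{u}} [AlgebraicGeometry.IsNoetherian X] (x : X)

/-- Near a point over a maximal point the fibre is a single point. -/
theorem exists_fibre_subsingleton (hx : ∀ y, y ⤳ x → y = x) {V : X.Etale} (v : V.left) (hvx : V.hom.base v = x) :
    ∃ O : V.left.Opens, v ∈ O ∧
      Subsingleton ((EtCoh.bc (X.fromSpecResidueField x)).obj (opensObj V O)).left ∧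
      Nonempty ((EtCoh.bc (X.fromSpecResidueField x)).obj (opensObj V O)).left := by
  obtain ⟨_, ⟨A, hA, rfl⟩, hvA, -⟩ := V.left.isBasis_affineOpens.exists_subset_of_mem_open
    (Set.mem_univ v) isOpen_univ
  let A₀ : V.left.Opens := A
  let f : V.left ⟶ X := V.hom
  haveI : Etale f := V.prop
  haveI : IsAffine A₀.toScheme := hA
  haveI : AlgebraicGeometry.IsNoetherian A₀.toScheme := by
    haveI : IsLocallyNoetherian A₀.toScheme := LocallyOfFiniteType.isLocallyNoetherian (A₀.ι ≫ f)
    exact {}
  let fib : Set A₀.toScheme := {z | f.base z.1 = x ∧ z.1 ≠ v}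
  have hfib : fib.Finite := by
    refine (finite_maximal (W := A₀.toScheme)).subset fun z hz y hy => ?_
    haveI : LocallyQuasiFinite (A₀.ι ≫ f) := GrothLib.EtBasicB.locallyQuasiFinite_of_unramified _
    refine GrothLib.Unibranch.maximal_of_locallyQuasiFinite (A₀.ι ≫ f) z (fun w hw => ?_) y hy
    have e : (A₀.ι ≫ f).base z = x := hz.1
    rw [e] at hw ⊢
    exact hx w hw
  have hclosed : IsClosed (⋃ z ∈ fib, closure ({z.1} : Set V.left)) :=
    hfib.isClosed_biUnion fun z _ => isClosed_closure
  let O : V.left.Opens := A₀ ⊓ ⟨_, hclosed.isOpen_compl⟩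
  have hvO : v ∈ O := ⟨hvA, fun h => by
    obtain ⟨z, hz, hzv⟩ := Set.mem_iUnion₂.1 h
    haveI : LocallyQuasiFinite f := GrothLib.EtBasicB.locallyQuasiFinite_of_unramified f
    exact hz.2 (GrothLib.EtFibre.eq_of_specializes_of_discrete f z.1 v (specializes_iff_mem_closure.2 hzv)
      (hz.1.trans hvx.symm))⟩
  have hsing : ∀ z ∈ O, f.base z = x → z = v := fun z hz hzx => by
    by_contra hne
    exact hz.2 (Set.mem_iUnion₂.2 ⟨⟨z, hz.1⟩, ⟨hzx, hne⟩, subset_closure rfl⟩)
  refine ⟨O, hvO, ?_, ?_⟩
  · let q := pullback.fst (O.ι ≫ f) (X.fromSpecResidueField x)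
    refine ⟨fun a a' => ?_⟩
    have hpt : ∀ a, (q.base a).1 = v := fun a => by
      refine hsing _ (q.base a).2 ?_
      have e : q ≫ O.ι ≫ f = pullback.snd (O.ι ≫ f) (X.fromSpecResidueField x) ≫ X.fromSpecResidueField x :=
        pullback.condition
      exact (congrArg (fun r => r.base a) e).trans (Scheme.fromSpecResidueField_apply x _)
    haveI : IsPreimmersion (X.fromSpecResidueField x) := by dsimp only [Scheme.fromSpecResidueField]; infer_instance
    haveI : IsPreimmersion q := MorphismProperty.pullback_fst (P := @IsPreimmersion) _ _ inferInstance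
    exact q.isEmbedding.injective (Subtype.ext ((hpt a).trans (hpt a').symm))
  · obtain ⟨w, -⟩ := Scheme.Pullback.exists_preimage_pullback (f := O.ι ≫ f) (g := X.fromSpecResidueField x)
      ⟨v, hvO⟩ default (hvx.trans (Scheme.fromSpecResidueField_apply x _).symm)
    exact ⟨w⟩

/-- Finite separable extensions of the residue field are fibres of étale schemes. -/
theorem exists_etale_fibre (E : Type u) [Field E] [Algebra (X.residueField x) E]
    [FiniteDimensional (X.residueField x) E] [Algebra.IsSeparable (X.residueField x) E] :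
    ∃ V : X.Etale, Nonempty (VL (X.residueField x) E ≅ (EtCoh.bc (X.fromSpecResidueField x)).obj V) := by
  let κ := X.residueField x
  obtain ⟨_, ⟨U₀, hU, rfl⟩, hxU, -⟩ := X.isBasis_affineOpens.exists_subset_of_mem_open (Set.mem_univ x) isOpen_univ
  let U : X.Opens := U₀
  let R := Γ(X, U)
  letI : Algebra R κ := (X.evaluation U x hxU).hom.toAlgebra
  have hfr : ∀ z : κ, ∃ a s : R, algebraMap R κ s ≠ 0 ∧ z * algebraMap R κ s = algebraMap R κ a := fun z => by
    obtain ⟨r, rfl⟩ := X.residue_surjective x z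
    letI : Algebra R (X.presheaf.stalk x) := TopCat.Presheaf.algebra_section_stalk X.presheaf (⟨x, hxU⟩ : U)
    haveI := hU.isLocalization_stalk ⟨x, hxU⟩
    obtain ⟨a, s, e⟩ := IsLocalization.exists_mk'_eq (hU.primeIdealOf ⟨x, hxU⟩).asIdeal.primeCompl
      (S := X.presheaf.stalk x) r
    have h1 : r * algebraMap R (X.presheaf.stalk x) s = algebraMap R (X.presheaf.stalk x) a := by
      rw [← e, IsLocalization.mk'_spec]
    refine ⟨a, s, ((IsLocalization.map_units (X.presheaf.stalk x) s).map (X.residue x).hom).ne_zero, ?_⟩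
    have h3 := congrArg (X.residue x).hom h1
    rw [map_mul] at h3
    exact h3
  obtain ⟨A, _, _, hA, ⟨e⟩⟩ := exists_etale_algebra hfr E
  let g : Spec (CommRingCat.of A) ⟶ Spec (CommRingCat.of R) := Spec.map (CommRingCat.ofHom (algebraMap R A))
  haveI : Etale g := by
    rw [HasRingHomProperty.Spec_iff (P := @Etale)]
    exact RingHom.etale_algebraMap.2 hA
  haveI : IsOpenImmersion hU.fromSpec := hU.isOpenImmersion_fromSpec
  haveI : Etale (g ≫ hU.fromSpec) := inferInstance
  let V : X.Etale := Scheme.Etale.mk (g ≫ hU.fromSpec)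
  have hev : Spec.map (CommRingCat.ofHom (algebraMap R κ)) ≫ hU.fromSpec = X.fromSpecResidueField x := by
    change Spec.map (X.evaluation U x hxU) ≫ hU.fromSpec = _
    rw [Scheme.evaluation, Spec.map_comp, Scheme.fromSpecResidueField, Category.assoc]
    congr 1
    exact hU.fromSpecStalk_eq_fromSpecStalk hxU
  have hp := isPullback_SpecMap_of_isPushout _ _ _ _
    (CommRingCat.isPushout_tensorProduct R κ A)
  have hp3 : IsPullback (Spec.map (CommRingCat.ofHom
      (Algebra.TensorProduct.includeRight (R := R) (A := κ) (B := A)).toRingHom))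
      (Spec.map (CommRingCat.ofHom (Algebra.TensorProduct.includeLeftRingHom : κ →+* κ ⊗[R] A)))
      (g ≫ hU.fromSpec) (X.fromSpecResidueField x) := by
    rw [← hev]
    refine IsPullback.of_isLimit' ⟨by rw [reassoc_of% hp.flip.w]⟩ ?_
    refine PullbackCone.IsLimit.mk _ (fun c => hp.flip.lift c.fst c.snd ((cancel_mono hU.fromSpec).1 (by
      rw [Category.assoc, Category.assoc]; exact c.condition)))
      (fun c => hp.flip.lift_fst _ _ _) (fun c => hp.flip.lift_snd _ _ _) fun c m h1 h2 => ?_
    exact hp.flip.hom_ext (h1.trans (hp.flip.lift_fst _ _ _).symm) (h2.trans (hp.flip.lift_snd _ _ _).symm)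
  let eS : Spec (CommRingCat.of E) ≅ Spec (CommRingCat.of (κ ⊗[R] A)) :=
    Scheme.Spec.mapIso e.toRingEquiv.toCommRingCatIso.op
  refine ⟨V, ⟨MorphismProperty.Over.isoMk (eS ≪≫ hp3.isoPullback) ?_⟩⟩
  change (eS.hom ≫ hp3.isoPullback.hom) ≫ pullback.snd _ _ = Spec.map (CommRingCat.ofHom (algebraMap κ E))
  rw [Category.assoc, hp3.isoPullback_hom_snd]
  refine (Spec.map_comp _ _).symm.trans (congrArg Spec.map ?_)
  exact CommRingCat.hom_ext (RingHom.ext fun r => e.commutes r)

/-- The counit of direct image from a maximal point is an isomorphism. -/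
theorem isIso_counit_maxPt (hx : ∀ y, y ⤳ x → y = x) (G : EtCoh.Ab (Spec (X.residueField x))) :
    IsIso ((EtCoh.pullPushAdj (X.fromSpecResidueField x)).counit.app G) := by
  refine isIso_of_stalksAC _ fun Ω _ _ ζ => ?_
  let f := X.fromSpecResidueField x
  suffices hb : Function.Bijective (ev f ζ rfl G) by
    simp only [ev, eqToHom_refl, Category.id_comp] at hb
    have hb' : Function.Bijective (⇑((EtCoh.stalk ζ).map ((EtCoh.pullPushAdj f).counit.app G)).hom ∘
        ⇑((pullStalkIso ζ f).inv.app ((EtCoh.push f).obj G)).hom) := hb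
    exact (Function.Bijective.of_comp_iff _ (ConcreteCategory.bijective_of_isIso
      ((pullStalkIso ζ f).inv.app ((EtCoh.push f).obj G)))).1 hb'
  refine ⟨?_, ?_⟩
  · refine (injective_iff_map_eq_zero (ev f ζ rfl G).hom).2 fun y hy => ?_
    obtain ⟨V, t, s, rfl⟩ := exists_germ (ζ ≫ f) ((EtCoh.push f).obj G) y
    let v := t.left.base (default : Spec (CommRingCat.of Ω))
    have hvx : V.hom.base v = x :=
      ((preimage_default (ζ ≫ f) t).trans (Scheme.fromSpecResidueField_apply x _))
    obtain ⟨O, hvO, hS, hN⟩ := exists_fibre_subsingleton x hx v hvx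
    let g := opensHom V O
    obtain ⟨t', ht', -⟩ := GrothLib.EtBasicB.exists_fib_lift (ζ ≫ f) g t (⟨v, hvO⟩ : O) rfl
    rw [← ht', ← germ_map] at hy ⊢
    rw [ev_germ] at hy
    obtain ⟨W, m, w, -, hm⟩ := eq_zero_nhd _ _ _ _ hy
    have hz : ((EtCoh.push f).obj G).obj.map g.op s = 0 := by
      refine injective_map_of_surjective' (G := G) m (fun p => ⟨w, hS.elim _ p⟩) ?_
      rw [map_zero]
      exact hm
    rw [hz, map_zero]
  · intro y
    obtain ⟨W, w, s, rfl⟩ := exists_germ ζ G y
    letI : Algebra (X.residueField x) Ω := (Spec.preimage ζ).hom.toAlgebra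
    obtain ⟨E, hE1, hE2, hE⟩ := exists_field_bound (k := (X.residueField x : Type u)) w
    obtain ⟨m, t', -, rfl⟩ := hE E le_rfl
    obtain ⟨V, ⟨e⟩⟩ := exists_etale_fibre x (E := E)
    let p := (Scheme.pointSmallEtale ζ).fiber.map e.hom t'
    let t : (Scheme.pointSmallEtale (ζ ≫ f)).fiber.obj V := (fiberBcIso ζ f).hom.app V p
    have ht : liftPt f t ζ rfl = p := by
      rw [← fiberBcIso_inv_eq_liftPt]
      exact congrFun (congrArg (fun q : _ ⟶ _ => (ConcreteCategory.hom q : _ → _)) ((fiberBcIso ζ f).hom_inv_id_app V)) p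
    refine ⟨germ (ζ ≫ f) ((EtCoh.push f).obj G) t (G.obj.map e.inv.op (G.obj.map m.op s)), ?_⟩
    rw [ev_germ, ht, germ_map, germ_map]
    congr 1
    rw [← FunctorToTypes.map_comp_apply, ← FunctorToTypes.map_comp_apply]
    simp [p]

end GrothLib.CdBr2
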