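import Groth.Agent.Lib.CdBr2.MaxPt
import Groth.Agent.Lib.CdBr2.Curve

/-!
# Torsion sheaves on noetherian schemes of dimension at most one
-/

set_option autoImplicit false
set_option backward.isDefEq.respectTransparency false
set_option backward.isDefEq.respectTransparency.types false
set_option linter.style.haveILetI false
set_option linter.all false

universe u

open CategoryTheory CategoryTheory.Limits CategoryTheory.Abelian AlgebraicGeometry Opposite
open GrothLib.EtSite GrothLib.EtTrace21 GrothLib.GalCd GrothLib.EtColim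

noncomputable section

namespace GrothLib.CdBr2

theorem isOfFinAddOrder_stalk {X : Scheme.{u}} {F : EtCoh.Ab X} (hF : EtCoh.IsTorsion F) {Ω : Type u} [Field Ω]
    [IsSepClosed Ω] (ξ : Spec (CommRingCat.of Ω) ⟶ X) (y : (EtCoh.stalk ξ).obj F) : IsOfFinAddOrder y := by
  obtain ⟨U, t, s, rfl⟩ := exists_germ ξ F y
  obtain ⟨V, g, ⟨v, hv⟩, hs⟩ := hF U s (t.left.base (default : Spec (CommRingCat.of Ω)))
  obtain ⟨t', rfl, -⟩ := GrothLib.EtBasicB.exists_fib_lift ξ g t v hv
  rw [← germ_map]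
  exact AddMonoidHom.isOfFinAddOrder (germ ξ F t').hom hs

/-- Inverse images of torsion sheaves are torsion. -/
theorem isTorsion_pull {W X : Scheme.{u}} (f : W ⟶ X) {F : EtCoh.Ab X} (hF : EtCoh.IsTorsion F) :
    EtCoh.IsTorsion ((EtCoh.pull f).obj F) := by
  intro U s w
  obtain ⟨t, ht⟩ := exists_fib (gac (U.hom.base w)) w (gac_default _).symm
  let e := (pullStalkIso (gac (U.hom.base w)) f).app F
  obtain ⟨n, hn, h0⟩ := isOfFinAddOrder_iff_nsmul_eq_zero.1
    (isOfFinAddOrder_stalk hF (gac (U.hom.base w) ≫ f) (e.hom (germ _ ((EtCoh.pull f).obj F) t s)))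
  have h1 : n • germ _ ((EtCoh.pull f).obj F) t s = 0 := by
    refine (ConcreteCategory.bijective_of_isIso e.hom).1 ?_
    rw [map_nsmul, h0, map_zero]
  obtain ⟨V, g, v, hv, hg⟩ := eq_zero_nhd _ _ t (n • s) ((map_nsmul _ n s).trans h1)
  exact ⟨V, g, ⟨v, hv.trans ht⟩, isOfFinAddOrder_iff_nsmul_eq_zero.2 ⟨n, hn, (map_nsmul _ n s).symm.trans hg⟩⟩

/-- Geometric points over a point factor through its residue field. -/
theorem exists_lift_residue {X : Scheme.{u}} {Ω : Type u} [Field Ω] (ξ : Spec (CommRingCat.of Ω) ⟶ X) (x : X)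
    (hx : ξ.base (default : Spec (CommRingCat.of Ω)) = x) :
    ∃ ζ : Spec (CommRingCat.of Ω) ⟶ Spec (X.residueField x), ζ ≫ X.fromSpecResidueField x = ξ := by
  obtain ⟨⟨y, φ⟩, rfl⟩ := (Scheme.SpecToEquivOfField Ω X).symm.surjective ξ
  obtain rfl : y = x := (Scheme.fromSpecResidueField_apply y _).symm.trans hx
  exact ⟨Spec.map φ, rfl⟩

variable {X : Scheme.{u}} [AlgebraicGeometry.IsNoetherian X]

theorem not_specializes_of_ne (hdim : topologicalKrullDim X ≤ 1) (x y : X) (hx : ∀ z, z ⤳ x → z = x)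
    (hy : ¬ IsClosed ({y} : Set X)) (hne : y ≠ x) : ¬ x ⤳ y := fun h =>
  hne (maximal_of_not_isClosed hdim y hy x h).symm

/-- `H^q`, `q ≥ 3`, of the direct image of a torsion sheaf from a maximal point vanishes. -/
theorem H_push_maxPt_eq_zero (hdim : topologicalKrullDim X ≤ 1)
    (hsep : ∀ x : X, IsClosed ({x} : Set X) → IsSepClosed (X.residueField x))
    (x : X) (hx : ∀ y, y ⤳ x → y = x) (hN : ∀ p : ℕ, p.Prime → NormSurj p (X.residueField x))
    (G : EtCoh.Ab (Spec (X.residueField x))) (hG : EtCoh.IsTorsion G) (q : ℕ)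
    (a : EtCoh.H X ((EtCoh.push (X.fromSpecResidueField x)).obj G) (q + 3)) : a = 0 := by
  let f := X.fromSpecResidueField x
  let S := injS G
  have hS := injS_shortExact G
  haveI : Injective S.X₂ := inferInstanceAs (Injective (Injective.under G))
  haveI : Injective ((EtCoh.push f).obj S.X₂) := GrothLib.EtDer.injective_push f S.X₂
  haveI : PreservesFiniteLimits (EtCoh.push f) :=
    ((EtCoh.pullPushAdj f).rightAdjoint_preservesLimits : PreservesLimitsOfSize.{0, 0} _).preservesFiniteLimits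
  haveI : Mono ((EtCoh.push f).map S.f) := (EtCoh.push f).map_mono S.f
  let m := (EtCoh.push f).map S.f
  let T := ShortComplex.mk m (cokernel.π m) (cokernel.condition m)
  have hT : T.ShortExact := { exact := T.exact_of_g_is_cokernel (cokernelIsCokernel _) }
  have hex := hS.exact.map_of_mono_of_preservesKernel (EtCoh.push f) inferInstance inferInstance
  obtain ⟨c, rfl⟩ := Ext.covariant_sequence_exact₁ _ hT a
    (@Ext.eq_zero_of_injective _ _ _ _ _ _ _ (inferInstanceAs (Injective ((EtCoh.push f).obj S.X₂))) _) (rfl : q + 2 + 1 = q + 3)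
  let b : T.X₃ ⟶ (EtCoh.push f).obj S.X₃ := cokernel.desc m ((EtCoh.push f).map S.g)
    (by rw [← Functor.map_comp, S.zero, Functor.map_zero])
  haveI : Mono b := hex.mono_cokernelDesc
  let R := ShortComplex.mk b (cokernel.π b) (cokernel.condition b)
  have hR : R.ShortExact := { exact := R.exact_of_g_is_cokernel (cokernelIsCokernel _) }
  have hC : ∀ (Ω : Type u) [Field Ω] [IsSepClosed Ω] (ξ : Spec (CommRingCat.of Ω) ⟶ X),
      ¬ IsClosed ({ξ.base (default : Spec (CommRingCat.of Ω))} : Set X) → IsZero ((EtCoh.stalk ξ).obj R.X₃) := by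
    intro Ω _ _ ξ hnc
    haveI : Epi R.g := inferInstanceAs (Epi (cokernel.π b))
    refine IsZero.of_epi_eq_zero ((EtCoh.stalk ξ).map R.g) ?_
    by_cases hξ : ξ.base (default : Spec (CommRingCat.of Ω)) = x
    · obtain ⟨ζ, hζ⟩ : ∃ ζ, ζ ≫ f = ξ := exists_lift_residue ξ x hξ
      haveI hcI : ∀ H : EtCoh.Ab (Spec (X.residueField x)), IsIso ((EtCoh.pullPushAdj f).counit.app H) :=
        fun H => isIso_counit_maxPt x hx H
      haveI : Epi S.g := hS.epi_g
      haveI : Epi ((EtCoh.pull f).map ((EtCoh.push f).map S.g)) := by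
        have hnat : (EtCoh.pull f).map ((EtCoh.push f).map S.g) ≫ (EtCoh.pullPushAdj f).counit.app S.X₃ =
            (EtCoh.pullPushAdj f).counit.app S.X₂ ≫ S.g := (EtCoh.pullPushAdj f).counit.naturality S.g
        have e : (EtCoh.pull f).map ((EtCoh.push f).map S.g) =
            (EtCoh.pullPushAdj f).counit.app S.X₂ ≫ S.g ≫ inv ((EtCoh.pullPushAdj f).counit.app S.X₃) := by
          rw [← Category.assoc, ← hnat, Category.assoc, IsIso.hom_inv_id, Category.comp_id]
        rw [e]
        infer_instance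
      haveI : Epi ((EtCoh.stalk ζ).map ((EtCoh.pull f).map ((EtCoh.push f).map S.g))) := inferInstance
      subst hζ
      haveI : Epi ((EtCoh.stalk (ζ ≫ f)).map ((EtCoh.push f).map S.g)) := by
        have e : (EtCoh.stalk (ζ ≫ f)).map ((EtCoh.push f).map S.g) =
            (pullStalkIso ζ f).inv.app _ ≫ (EtCoh.stalk ζ).map ((EtCoh.pull f).map ((EtCoh.push f).map S.g)) ≫
              (pullStalkIso ζ f).hom.app _ := by
          have hn := (pullStalkIso ζ f).hom.naturality ((EtCoh.push f).map S.g)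
          rw [show (EtCoh.stalk ζ).map ((EtCoh.pull f).map ((EtCoh.push f).map S.g)) ≫
              (pullStalkIso ζ f).hom.app ((EtCoh.push f).obj S.X₃) = _ from hn]
          exact (Iso.inv_hom_id_app_assoc (pullStalkIso ζ f) _ _).symm
        rw [e]
        infer_instance
      rw [← cancel_epi ((EtCoh.stalk (ζ ≫ f)).map ((EtCoh.push f).map S.g)), comp_zero, ← Functor.map_comp]
      have e2 : (EtCoh.push f).map S.g = cokernel.π m ≫ b := (cokernel.π_desc _ _ _).symm
      change (EtCoh.stalk (ζ ≫ f)).map ((EtCoh.push f).map S.g ≫ cokernel.π b) = 0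
      rw [e2, Category.assoc, cokernel.condition, comp_zero, Functor.map_zero]
    · exact (isZero_stalk_push_of_not_specializes x ξ
        (not_specializes_of_ne hdim x _ hx hnc hξ) _).eq_of_src _ _
  haveI := GrothLib.EtDer.pullFL f
  have hRp : ∀ r : ℕ, 0 < r → IsZero ((EtCoh.Rpush f r).obj S.X₃) := by
    intro r hr
    obtain ⟨r', rfl⟩ : ∃ r', r = r' + 1 := ⟨r - 1, by omega⟩
    refine isZero_Rpush_of_fields (k := (X.residueField x : Type u)) f r' _ fun K _ _ _ _ _ _ i hi => ⟨fun c₁ c₂ => ?_⟩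
    let j := specMap (X.residueField x : Type u) K
    haveI := GrothLib.EtDer.pullFL j
    haveI : PreservesFiniteLimits (EtShriek.restrAlong j) :=
      preservesFiniteLimits_of_natIso (GrothLib.ExtZero.restrIsoPull j).symm
    haveI : PreservesFiniteColimits (EtShriek.restrAlong j) :=
      preservesFiniteColimits_of_natIso (GrothLib.ExtZero.restrIsoPull j).symm
    haveI : (EtShriek.restrAlong j).Additive := Functor.additive_of_preserves_binary_products _
    have hSj : (S.map (EtShriek.restrAlong j)).ShortExact := hS.map_of_exact _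
    haveI := GrothLib.ExtZero.preservesFiniteLimits_extZero j
    haveI : (EtShriek.extZero j).PreservesMonomorphisms := preservesMonomorphisms_of_preservesLimitsOfShape _
    haveI : Injective (S.map (EtShriek.restrAlong j)).X₂ :=
      Injective.injective_of_adjoint (EtShriek.extZeroAdj j) S.X₂
    suffices hz : ∀ c : EtCoh.H _ ((EtShriek.restrAlong j).obj S.X₃) i, c = 0 from (hz c₁).trans (hz c₂).symm
    intro c
    obtain ⟨r, rfl⟩ : ∃ r, i = r + 1 := ⟨i - 1, by omega⟩
    obtain ⟨y, hy⟩ := Ext.covariant_sequence_exact₃ _ hSj c rfl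
      (H_torsion_eq_zero (fun p hp => normSurj_trans (hN p hp)) _
        (GrothLib.EtTrace21.isTorsion_restrAlong j hG) (r + 1 + 1) (by omega) _)
    rw [← hy, Ext.eq_zero_of_injective y, Ext.zero_comp]
  have hX3 : ∀ z : EtCoh.H (Spec (X.residueField x)) S.X₃ (q + 2), z = 0 := fun z => by
    obtain ⟨y, hy⟩ := Ext.covariant_sequence_exact₃ _ hS z rfl (H_torsion_eq_zero hN G hG (q + 2 + 1) (by omega) _)
    rw [← hy, Ext.eq_zero_of_injective y, Ext.zero_comp]
  have h0 : Ext.comp c (Ext.mk₀ R.f) (add_zero (q + 2)) = 0 :=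
    (Groth.Agent.S14451.result f S.X₃ hRp (q + 2)).1 ((hX3 _).trans (hX3 _).symm)
  obtain ⟨w, rfl⟩ := Ext.covariant_sequence_exact₁ _ hR c h0 (rfl : q + 1 + 1 = q + 2)
  rw [H_eq_zero_of_supp_closedPts hsep _ hC (q + 1) (by omega) w, Ext.zero_comp, Ext.zero_comp]

/-- Vanishing from vanishing at the maximal points. -/
theorem H_eq_zero_of_components (hdim : topologicalKrullDim X ≤ 1)
    (hsep : ∀ x : X, IsClosed ({x} : Set X) → IsSepClosed (X.residueField x))
    (F : EtCoh.Ab X) (q : ℕ)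
    (hH : ∀ (x : MaxPts X) (b : EtCoh.H X ((EtCoh.push (X.fromSpecResidueField x.1)).obj
      ((EtCoh.pull (X.fromSpecResidueField x.1)).obj F)) (q + 2)), b = 0)
    (a : EtCoh.H X F (q + 2)) : a = 0 := by
  classical
  haveI : Fintype (MaxPts X) := Fintype.ofFinite _
  let G : MaxPts X → EtCoh.Ab X := fun x =>
    (EtCoh.push (X.fromSpecResidueField x.1)).obj ((EtCoh.pull (X.fromSpecResidueField x.1)).obj F)
  let φ : F ⟶ ⨁ G := biproduct.lift fun x => (EtCoh.pullPushAdj (X.fromSpecResidueField x.1)).unit.app F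
  have htot : ∑ j, biproduct.π G j ≫ biproduct.ι G j = 𝟙 (⨁ G) := IsBilimit.total (biproduct.isBilimit G)
  have hiso : ∀ (Ω : Type u) [Field Ω] [IsSepClosed Ω] (ξ : Spec (CommRingCat.of Ω) ⟶ X),
      ¬ IsClosed ({ξ.base (default : Spec (CommRingCat.of Ω))} : Set X) → IsIso ((EtCoh.stalk ξ).map φ) := by
    intro Ω _ _ ξ hnc
    let x₀ := ξ.base (default : Spec (CommRingCat.of Ω))
    let i₀ : MaxPts X := ⟨x₀, fun y hy => maximal_of_not_isClosed hdim x₀ hnc y hy⟩
    have hzero : ∀ i : MaxPts X, i ≠ i₀ → IsZero ((EtCoh.stalk ξ).obj (G i)) := fun i hi =>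
      isZero_stalk_push_of_not_specializes i.1 ξ (fun hs => hi (Subtype.ext (i₀.2 _ hs))) _
    haveI : IsIso ((EtCoh.stalk ξ).map (biproduct.π G i₀)) := by
      refine ⟨(EtCoh.stalk ξ).map (biproduct.ι G i₀), ?_, ?_⟩
      · rw [← Functor.map_comp, ← CategoryTheory.Functor.map_id, ← htot, Functor.map_sum, Finset.sum_eq_single i₀]
        · intro i _ hi
          rw [Functor.map_comp, (hzero i hi).eq_of_tgt ((EtCoh.stalk ξ).map (biproduct.π G i)) 0, zero_comp]
        · exact fun h => absurd (Finset.mem_univ _) h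
      · rw [← Functor.map_comp, biproduct.ι_π_self, CategoryTheory.Functor.map_id]
    let f := X.fromSpecResidueField i₀.1
    obtain ⟨ζ, hζ⟩ : ∃ ζ, ζ ≫ f = ξ := exists_lift_residue ξ i₀.1 rfl
    haveI : IsIso ((EtCoh.stalk ξ).map ((EtCoh.pullPushAdj f).unit.app F)) := by
      rw [← hζ]
      haveI := isIso_counit_maxPt i₀.1 i₀.2 ((EtCoh.pull f).obj F)
      haveI : IsIso (𝟙 ((EtCoh.pull f).obj F)) := IsIso.id _
      haveI : IsIso ((EtCoh.pull f).map ((EtCoh.pullPushAdj f).unit.app F)) :=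
        IsIso.of_isIso_fac_right ((EtCoh.pullPushAdj f).left_triangle_components F)
      exact (NatIso.isIso_map_iff (pullStalkIso ζ f) _).1
        (inferInstanceAs (IsIso ((EtCoh.stalk ζ).map ((EtCoh.pull f).map ((EtCoh.pullPushAdj f).unit.app F)))))
    have e : (EtCoh.stalk ξ).map φ ≫ (EtCoh.stalk ξ).map (biproduct.π G i₀) =
        (EtCoh.stalk ξ).map ((EtCoh.pullPushAdj f).unit.app F) := by
      rw [← Functor.map_comp, biproduct.lift_π]
    exact IsIso.of_isIso_fac_right e
  let K := ShortComplex.mk (kernel.ι φ) (Abelian.factorThruImage φ) (by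
    rw [← cancel_mono (Abelian.image.ι φ), Category.assoc, Abelian.image.fac, kernel.condition, zero_comp])
  have hK : K.ShortExact := by
    refine { exact := K.exact_of_f_is_kernel ?_ }
    exact isKernelOfComp (Abelian.image.ι φ) φ (kernelIsKernel φ) K.zero (Abelian.image.fac φ)
  let C := ShortComplex.mk (Abelian.image.ι φ) (cokernel.π φ) (kernel.condition _)
  have hC : C.ShortExact := { exact := C.exact_of_f_is_kernel (kernelIsKernel _) }
  have hQ1 : ∀ (Ω : Type u) [Field Ω] [IsSepClosed Ω] (ξ : Spec (CommRingCat.of Ω) ⟶ X),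
      ¬ IsClosed ({ξ.base (default : Spec (CommRingCat.of Ω))} : Set X) → IsZero ((EtCoh.stalk ξ).obj C.X₃) := by
    intro Ω _ _ ξ hnc
    haveI := hiso Ω ξ hnc
    refine IsZero.of_epi_eq_zero ((EtCoh.stalk ξ).map (cokernel.π φ)) ?_
    rw [← cancel_epi ((EtCoh.stalk ξ).map φ), ← Functor.map_comp, cokernel.condition, Functor.map_zero, comp_zero]
  have hQ2 : ∀ (Ω : Type u) [Field Ω] [IsSepClosed Ω] (ξ : Spec (CommRingCat.of Ω) ⟶ X),
      ¬ IsClosed ({ξ.base (default : Spec (CommRingCat.of Ω))} : Set X) → IsZero ((EtCoh.stalk ξ).obj K.X₁) := by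
    intro Ω _ _ ξ hnc
    haveI := hiso Ω ξ hnc
    refine IsZero.of_mono_eq_zero ((EtCoh.stalk ξ).map (kernel.ι φ)) ?_
    rw [← cancel_mono ((EtCoh.stalk ξ).map φ), ← Functor.map_comp, kernel.condition, Functor.map_zero, zero_comp]
  have hP : ∀ b : EtCoh.H X (⨁ G) (q + 2), b = 0 := fun b => by
    have e : b = ∑ i, Ext.comp b (Ext.mk₀ (biproduct.π G i ≫ biproduct.ι G i)) (add_zero (q + 2)) := by
      rw [← Ext.comp_sum, ← Ext.mk₀_sum, htot, Ext.comp_mk₀_id]
    rw [e]
    refine Finset.sum_eq_zero fun i _ => ?_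
    have h := hH i (Ext.comp b (Ext.mk₀ (biproduct.π G i)) (add_zero (q + 2)))
    rw [← Ext.mk₀_comp_mk₀, ← Ext.comp_assoc_of_third_deg_zero]
    rw [show Ext.comp b (Ext.mk₀ (biproduct.π G i)) (add_zero (q + 2)) = 0 from h, Ext.zero_comp]
  have h1 : Ext.comp a (Ext.mk₀ K.g) (add_zero (q + 2)) = 0 := by
    obtain ⟨w, hw⟩ := Ext.covariant_sequence_exact₁ _ hC (Ext.comp a (Ext.mk₀ K.g) (add_zero (q + 2))) (hP _)
      (rfl : q + 1 + 1 = q + 2)
    rw [← hw, H_eq_zero_of_supp_closedPts hsep _ hQ1 (q + 1) (by omega) w, Ext.zero_comp]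
  obtain ⟨z, rfl⟩ := Ext.covariant_sequence_exact₂ _ hK a h1
  rw [H_eq_zero_of_supp_closedPts hsep _ hQ2 (q + 2) (by omega) z, Ext.zero_comp]

/-- Torsion sheaves have no cohomology in degrees `≥ 3`. -/
theorem H_eq_zero_of_dim_le_one (hdim : topologicalKrullDim X ≤ 1)
    (hsep : ∀ x : X, IsClosed ({x} : Set X) → IsSepClosed (X.residueField x))
    (hN : ∀ x : MaxPts X, ∀ p : ℕ, p.Prime → NormSurj p (X.residueField x.1))
    (F : EtCoh.Ab X) (hF : EtCoh.IsTorsion F) (q : ℕ) (a : EtCoh.H X F (q + 3)) : a = 0 :=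
  H_eq_zero_of_components hdim hsep F (q + 1)
    (fun x b => H_push_maxPt_eq_zero hdim hsep x.1 x.2 (hN x) _ (isTorsion_pull _ hF) q b) a

/-- Uniquely divisible sheaves have no cohomology in degrees `≥ 2`. -/
theorem H_eq_zero_of_uniquelyDivisible (hdim : topologicalKrullDim X ≤ 1)
    (hsep : ∀ x : X, IsClosed ({x} : Set X) → IsSepClosed (X.residueField x))
    (F : EtCoh.Ab X) (hdiv : ∀ n : ℕ, 0 < n → IsIso (n • 𝟙 F)) (q : ℕ) (a : EtCoh.H X F (q + 2)) : a = 0 := by
  refine H_eq_zero_of_components hdim hsep F q (fun x b => ?_) a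
  let f := X.fromSpecResidueField x.1
  obtain ⟨n, hn, hn0⟩ := isOfFinAddOrder_iff_nsmul_eq_zero.1
    (GrothLib.EtTrace21.isOfFinAddOrder_H_push (k := (X.residueField x.1 : Type u)) f (q + 1) _ b)
  haveI := hdiv n hn
  haveI : PreservesFiniteLimits (EtCoh.push f) :=
    ((EtCoh.pullPushAdj f).rightAdjoint_preservesLimits : PreservesLimitsOfSize.{0, 0} _).preservesFiniteLimits
  haveI : (EtCoh.push f).Additive := Functor.additive_of_preserves_binary_products _
  haveI := GrothLib.EtDer.pullFL f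
  haveI : (EtCoh.pull f).Additive := Functor.additive_of_preserves_binary_products _
  let P := (EtCoh.push f).obj ((EtCoh.pull f).obj F)
  have e : (EtCoh.push f).map ((EtCoh.pull f).map (n • 𝟙 F)) = n • 𝟙 P := by
    simp [Functor.map_nsmul, P]
  haveI : IsIso (n • 𝟙 P) := e ▸ inferInstance
  refine (GrothLib.EtDer.bijective_comp_mk₀ (asIso (n • 𝟙 P)) (q + 2)).1 ?_
  change Ext.comp b (Ext.mk₀ (n • 𝟙 P)) (add_zero (q + 2)) = Ext.comp 0 _ _
  rw [comp_nsmul_id, hn0, Ext.zero_comp]

/-- The hypotheses for schemes of finite type over an algebraically closed field. -/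
theorem H_eq_zero_of_finiteType {k : Type u} [Field k] [IsAlgClosed k] {X : Scheme.{u}}
    (f : X ⟶ Spec (CommRingCat.of k)) [LocallyOfFiniteType f] [QuasiCompact f]
    (hdim : topologicalKrullDim X ≤ 1) (F : EtCoh.Ab X) (hF : EtCoh.IsTorsion F) (q : ℕ) (hq : 3 ≤ q) :
    Subsingleton (EtCoh.H X F q) := by
  obtain ⟨r, rfl⟩ : ∃ r, q = r + 3 := ⟨q - 3, by omega⟩
  haveI : CompactSpace X := QuasiCompact.compactSpace_of_compactSpace f
  haveI : IsLocallyNoetherian X := LocallyOfFiniteType.isLocallyNoetherian f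
  haveI : AlgebraicGeometry.IsNoetherian X := {}
  have h := H_eq_zero_of_dim_le_one hdim
    (fun x hx => isSepClosed_residueField_of_closed f x hx)
    (fun x p _ =>
      letI : Algebra k (X.residueField x.1) := (Spec.preimage (X.fromSpecResidueField x.1 ≫ f)).hom.toAlgebra
      normSurj_of_trdeg_le_one k (X.residueField x.1) (trdeg_residueField_le f hdim x.1) p) F hF r
  exact ⟨fun a b => (h a).trans (h b).symm⟩

end GrothLib.CdBr2
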